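import Mathlib

/-!
General tools for groups of order 7920 with disconnected prime graph.
-/

namespace Cfsg.Agent.GK7920

open Subgroup MulAction

set_option linter.unusedSectionVars false
set_option linter.style.haveILetI false

variable {G : Type*} [Group G] [Finite G]

theorem centralizer_zpowers (g : G) :
    centralizer ((zpowers g : Subgroup G) : Set G) = centralizer ({g} : Set G) := by
  rw [zpowers_eq_closure, centralizer_closure]

/-- counting the fixed points of a `p`-group acting by conjugation on a subgroup -/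
theorem card_modEq_inf_centralizer {p : ℕ} [Fact p.Prime] (S K : Subgroup G) (hS : IsPGroup p S)
    (hSK : S ≤ normalizer (K : Set G)) :
    Nat.card K ≡ Nat.card (K ⊓ centralizer (S : Set G) : Subgroup G) [MOD p] := by
  letI act : MulAction S K :=
    { smul := fun s k => ⟨(s : G) * k * (s : G)⁻¹, (mem_normalizer_iff.1 (hSK s.2) k).1 k.2⟩
      one_smul := fun k => Subtype.ext (by
        change (1 : G) * k * (1 : G)⁻¹ = k
        simp)
      mul_smul := fun s t k => Subtype.ext (by
        change ((s : G) * t) * k * ((s : G) * t)⁻¹ = (s : G) * ((t : G) * k * (t : G)⁻¹) * (s : G)⁻¹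
        group) }
  have hsmul : ∀ (s : S) (k : K), ((s • k : K) : G) = (s : G) * k * (s : G)⁻¹ := fun s k => rfl
  refine (hS.card_modEq_card_fixedPoints K).trans ?_
  suffices e : fixedPoints S K ≃ (K ⊓ centralizer (S : Set G) : Subgroup G) by rw [Nat.card_congr e]
  refine
    { toFun := fun k => ⟨((k : K) : G), k.1.2, mem_centralizer_iff.2 fun s hs => ?_⟩
      invFun := fun k => ⟨⟨(k : G), k.2.1⟩, fun s => Subtype.ext ?_⟩
      left_inv := fun k => rfl
      right_inv := fun k => rfl }
  · have := congrArg (fun z : K => (z : G)) (k.2 ⟨s, hs⟩)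
    simp only [hsmul] at this
    exact mul_inv_eq_iff_eq_mul.1 this
  · rw [hsmul]
    exact mul_inv_eq_iff_eq_mul.2 (mem_centralizer_iff.1 k.2.2 s s.2)

theorem exists_orderOf {p : ℕ} [Fact p.Prime] {H : Subgroup G} (h : p ∣ Nat.card H) :
    ∃ v ∈ H, orderOf v = p := by
  obtain ⟨v, hv⟩ := exists_prime_orderOf_dvd_card' p h
  exact ⟨v, v.2, by rw [Subgroup.orderOf_coe, hv]⟩

theorem orderOf_dvd_card {H : Subgroup G} {g : G} (hg : g ∈ H) : orderOf g ∣ Nat.card H := by
  rw [← Subgroup.orderOf_mk (a := g) hg]
  exact orderOf_dvd_natCard _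

/-- the normaliser of a subgroup of prime order modulo its centraliser -/
theorem normalizer_dvd {p : ℕ} [hp : Fact p.Prime] {g : G} (hg : orderOf g = p) :
    Nat.card (normalizer ((zpowers g : Subgroup G) : Set G)) ∣
      Nat.card (centralizer ({g} : Set G)) * (p - 1) := by
  rw [← centralizer_zpowers]
  set P : Subgroup G := zpowers g
  let f := normalizerMonoidHom P
  have hcyc : IsCyclic P := inferInstance
  have hA : Nat.card (MulAut P) = p - 1 := by
    have e : P ≃* Multiplicative (ZMod p) :=
      (zmodCyclicMulEquiv hcyc).symm.trans (by rw [Nat.card_zpowers, hg])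
    rw [IsCyclic.card_mulAut P, Nat.card_zpowers, hg, Nat.totient_prime hp.out]
  have h1 : Nat.card f.ker * Nat.card f.range = Nat.card (normalizer (P : Set G)) := by
    rw [← Subgroup.index_ker]
    exact Subgroup.card_mul_index f.ker
  have h2 : Nat.card f.ker = Nat.card (centralizer (P : Set G)) := by
    rw [normalizerMonoidHom_ker]
    exact Nat.card_congr (subgroupOfEquivOfLe (centralizer_le_normalizer _)).toEquiv
  rw [← h1, h2]
  exact Nat.mul_dvd_mul_left _ (hA ▸ card_subgroup_dvd_card f.range)

/-- all elements of order `p` are conjugate up to powers when `p` divides the order once -/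
theorem exists_conj_zpowers {p : ℕ} [hp : Fact p.Prime] (hsq : (Nat.card G).factorization p = 1)
    {x x' : G} (hx : orderOf x = p) (hx' : orderOf x' = p) :
    ∃ g : G, (zpowers x').map (MulAut.conj g).toMonoidHom = zpowers x := by
  let P : Sylow p G := Sylow.ofCard (zpowers x) (by rw [Nat.card_zpowers, hx, hsq, pow_one])
  let P' : Sylow p G := Sylow.ofCard (zpowers x') (by rw [Nat.card_zpowers, hx', hsq, pow_one])
  obtain ⟨g, hg⟩ := MulAction.exists_smul_eq G P' P
  refine ⟨g, ?_⟩
  have := congrArg (fun Q : Sylow p G => (Q : Subgroup G)) hg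
  simp only [Sylow.coe_subgroup_smul, P, P', Sylow.coe_ofCard] at this
  exact this

/-- the part of order prime to `p` when the normal subgroup `N` has a self normalising Sylow -/
theorem exists_complement {p : ℕ} [hp : Fact p.Prime] (N : Subgroup G) [hN : N.Normal] {x : G}
    (hx : orderOf x = p) (hxN : x ∈ N) (hsq : (Nat.card G).factorization p = 1)
    (hNN : Nat.card (N ⊓ normalizer ((zpowers x : Subgroup G) : Set G) : Subgroup G) = p) :
    ∃ K : Subgroup G, K.Normal ∧ ¬ p ∣ Nat.card K ∧ Nat.card K * p = Nat.card N := by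
  have hP : zpowers x ≤ N := zpowers_le.2 hxN
  have hfac : (Nat.card N).factorization p = 1 := by
    refine le_antisymm (le_of_le_of_eq ?_ hsq) ?_
    · exact (Nat.factorization_le_iff_dvd Nat.card_pos.ne' Nat.card_pos.ne').2
        (card_subgroup_dvd_card N) p
    · exact hp.out.factorization_pos_of_dvd Nat.card_pos.ne' (hx ▸ orderOf_dvd_card hxN)
  let P : Sylow p N := Sylow.ofCard ((zpowers x).subgroupOf N) (by
    rw [Nat.card_congr (subgroupOfEquivOfLe hP).toEquiv, Nat.card_zpowers, hx, hfac, pow_one])
  have hPC : normalizer ((P : Subgroup N) : Set N) ≤ centralizer ((P : Subgroup N) : Set N) := by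
    intro n hn
    have hle : (zpowers x) ≤ N ⊓ normalizer ((zpowers x : Subgroup G) : Set G) :=
      le_inf hP le_normalizer
    have heq : zpowers x = N ⊓ normalizer ((zpowers x : Subgroup G) : Set G) :=
      eq_of_le_of_card_ge hle (by rw [hNN, Nat.card_zpowers, hx])
    have hnN : (n : G) ∈ normalizer ((zpowers x : Subgroup G) : Set G) := by
      refine mem_normalizer_iff.2 fun y => ⟨fun hy => ?_, fun hy => ?_⟩
      · have := (mem_normalizer_iff.1 hn ⟨y, hP hy⟩).1 hy
        exact this
      · have hyN : y ∈ N := by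
          have h2 := hN.conj_mem _ (hP hy) (n : G)⁻¹
          simpa [mul_assoc] using h2
        exact (mem_normalizer_iff.1 hn ⟨y, hyN⟩).2 hy
    have hnP : (n : G) ∈ zpowers x := heq ▸ ⟨n.2, hnN⟩
    rw [mem_centralizer_iff]
    intro y hy
    apply Subtype.ext
    have hy' : (y : G) ∈ zpowers x := hy
    have e := congrArg Subtype.val
      ((inferInstance : IsMulCommutative (zpowers x)).is_comm.comm ⟨(y : G), hy'⟩ ⟨(n : G), hnP⟩)
    exact e
  have hc := MonoidHom.ker_transferSylow_isComplement' P hPC
  have hnd := MonoidHom.not_dvd_card_ker_transferSylow P hPC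
  set K₀ := (MonoidHom.transferSylow P hPC).ker with hK₀
  have hcard : Nat.card K₀ * p = Nat.card N := by
    rw [← hc.card_mul_card]
    congr 1
    rw [Sylow.coe_ofCard, Nat.card_congr (subgroupOfEquivOfLe hP).toEquiv, Nat.card_zpowers, hx]
  refine ⟨K₀.map N.subtype, ⟨?_⟩, ?_, ?_⟩
  · rintro _ ⟨k, hk, rfl⟩ g
    let k' : N := ⟨g * (k : G) * g⁻¹, hN.conj_mem _ k.2 g⟩
    refine ⟨k', ?_, rfl⟩
    have hord : ¬ p ∣ orderOf k' := by
      have : orderOf k' = orderOf k := by
        rw [← Subgroup.orderOf_coe k', ← Subgroup.orderOf_coe k]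
        exact orderOf_injective (MulAut.conj g).toMonoidHom (MulAut.conj g).injective (k : G)
      rw [this]
      exact fun h => hnd (h.trans (orderOf_dvd_card hk))
    have hidx : K₀.index = p := by
      have h := K₀.card_mul_index
      rw [← hcard] at h
      exact Nat.eq_of_mul_eq_mul_left Nat.card_pos h
    by_contra hk'
    apply hord
    have h1 : orderOf (QuotientGroup.mk' K₀ k') ∣ p :=
      (orderOf_dvd_natCard (QuotientGroup.mk' K₀ k')).trans (dvd_of_eq hidx)
    rcases (Nat.dvd_prime hp.out).1 h1 with h | h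
    · exact absurd ((QuotientGroup.eq_one_iff k').1 (orderOf_eq_one_iff.1 h)) hk'
    · exact h ▸ orderOf_map_dvd _ k'
  · rw [card_map_of_injective N.subtype_injective]
    exact hnd
  · rw [card_map_of_injective N.subtype_injective]
    exact hcard

/-- Frattini for orders -/
theorem card_quotient_dvd_normalizer {p : ℕ} [Fact p.Prime] (N : Subgroup G) [N.Normal]
    (P : Sylow p N) :
    N.index ∣ Nat.card (normalizer (((P : Subgroup N).map N.subtype : Subgroup G) : Set G)) := by
  set H := normalizer (((P : Subgroup N).map N.subtype : Subgroup G) : Set G)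
  have hsup : H ⊔ N = ⊤ := Sylow.normalizer_sup_eq_top P
  have hsurj : Function.Surjective ((QuotientGroup.mk' N).comp H.subtype) := by
    rw [← MonoidHom.range_eq_top, MonoidHom.range_comp, Subgroup.range_subtype,
      eq_top_iff, ← Subgroup.map_top_of_surjective (QuotientGroup.mk' N) (QuotientGroup.mk'_surjective N),
      ← hsup, Subgroup.map_sup, QuotientGroup.map_mk'_self, sup_bot_eq]
  exact Subgroup.card_dvd_of_surjective _ hsurj

end Cfsg.Agent.GK7920
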