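import Cfsg.Agent.GK7920.Tools
import Cfsg.Agent.ZStar.Final

/-!
Groups of order 7920 with disconnected prime graph are simple.
-/

namespace Cfsg.Agent.GK7920

open Subgroup MulAction

set_option linter.unusedSectionVars false
set_option linter.style.haveILetI false

variable {G : Type*} [Group G] [Finite G]

/-- `A` splits the prime graph -/
def Splits (G : Type*) [Group G] (A : Set ℕ) : Prop :=
  ∀ g h : G, (orderOf g).Prime → (orderOf h).Prime → Commute g h → (orderOf g ∈ A ↔ orderOf h ∈ A)

variable (hord : Nat.card G = 7920)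

include hord

theorem fac_eleven : (Nat.card G).factorization 11 = 1 := by
  rw [hord, Nat.factorization_def _ (by norm_num)]
  haveI : Fact (Nat.Prime 11) := ⟨by norm_num⟩
  rw [show 7920 = 11 ^ 1 * 720 by norm_num, padicValNat.mul (by norm_num) (by norm_num),
    padicValNat.prime_pow, padicValNat.eq_zero_of_not_dvd (by norm_num)]

theorem fac_five : (Nat.card G).factorization 5 = 1 := by
  rw [hord, Nat.factorization_def _ (by norm_num)]
  haveI : Fact (Nat.Prime 5) := ⟨by norm_num⟩
  rw [show 7920 = 5 ^ 1 * 1584 by norm_num, padicValNat.mul (by norm_num) (by norm_num),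
    padicValNat.prime_pow, padicValNat.eq_zero_of_not_dvd (by norm_num)]

theorem prime_cases {r : ℕ} (hr : r.Prime) (h : r ∣ Nat.card G) :
    r = 2 ∨ r = 3 ∨ r = 5 ∨ r = 11 := by
  rw [hord, show 7920 = 2 ^ 4 * 3 ^ 2 * 5 * 11 by norm_num] at h
  rcases hr.dvd_mul.1 h with h | h
  · rcases hr.dvd_mul.1 h with h | h
    · rcases hr.dvd_mul.1 h with h | h
      · exact Or.inl ((Nat.prime_dvd_prime_iff_eq hr Nat.prime_two).1 (hr.dvd_of_dvd_pow h))
      · exact Or.inr (Or.inl ((Nat.prime_dvd_prime_iff_eq hr Nat.prime_three).1 (hr.dvd_of_dvd_pow h)))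
    · exact Or.inr (Or.inr (Or.inl ((Nat.prime_dvd_prime_iff_eq hr Nat.prime_five).1 h)))
  · exact Or.inr (Or.inr (Or.inr ((Nat.prime_dvd_prime_iff_eq hr (by norm_num)).1 h)))

/-- a normal subgroup of order prime to 11 lies in the centraliser of each element of order 11 -/
theorem le_centralizer_eleven (N : Subgroup G) [N.Normal] (h11 : ¬ 11 ∣ Nat.card N) {x : G}
    (hx : orderOf x = 11) : N ≤ centralizer ({x} : Set G) := by
  haveI : Fact (Nat.Prime 11) := ⟨by norm_num⟩
  have hdvd : Nat.card N ∣ Nat.card (N ⊓ centralizer ({x} : Set G) : Subgroup G) := by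
    rw [← Nat.factorization_le_iff_dvd Nat.card_pos.ne' Nat.card_pos.ne']
    intro s
    by_cases hs : s.Prime
    swap
    · simp [Nat.factorization_eq_zero_of_not_prime _ hs]
    by_cases hsN : s ∣ Nat.card N
    swap
    · simp [Nat.factorization_eq_zero_of_not_dvd hsN]
    haveI : Fact s.Prime := ⟨hs⟩
    obtain ⟨P⟩ : Nonempty (Sylow s N) := inferInstance
    set S : Subgroup G := (P : Subgroup N).map N.subtype with hS
    have hScard : Nat.card S = s ^ (Nat.card N).factorization s := by
      rw [hS, card_map_of_injective N.subtype_injective, P.card_eq_multiplicity]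
    have h11i : 11 ∣ N.index := by
      have h := N.card_mul_index
      have : 11 ∣ Nat.card N * N.index := h ▸ hord ▸ by norm_num
      exact ((Nat.Prime.dvd_mul (by norm_num)).1 this).resolve_left h11
    obtain ⟨x', hx'mem, hx'⟩ := exists_orderOf (h11i.trans (card_quotient_dvd_normalizer N P))
    have hmod := card_modEq_inf_centralizer (zpowers x') S
      (IsPGroup.of_card (n := 1) (by rw [Nat.card_zpowers, hx', pow_one]))
      (zpowers_le.2 hx'mem)
    have hd : Nat.card (S ⊓ centralizer ((zpowers x' : Subgroup G) : Set G) : Subgroup G) ∣ Nat.card S :=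
      card_dvd_of_le inf_le_left
    have hS720 : Nat.card S ∈ [1, 2, 4, 8, 16, 3, 9, 5] := by
      rw [hScard]
      have hle : s ^ (Nat.card N).factorization s ∣ 7920 :=
        (Nat.ordProj_dvd _ _).trans (hord ▸ card_subgroup_dvd_card N)
      obtain rfl | rfl | rfl | rfl := prime_cases hord hs (hsN.trans (card_subgroup_dvd_card N))
      · have : (Nat.card N).factorization 2 ≤ 4 := by
          by_contra h
          exact absurd ((Nat.pow_dvd_pow 2 (by omega : 5 ≤ (Nat.card N).factorization 2)).trans hle)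
            (by norm_num)
        interval_cases (Nat.card N).factorization 2 <;> decide
      · have : (Nat.card N).factorization 3 ≤ 2 := by
          by_contra h
          exact absurd ((Nat.pow_dvd_pow 3 (by omega : 3 ≤ (Nat.card N).factorization 3)).trans hle)
            (by norm_num)
        interval_cases (Nat.card N).factorization 3 <;> decide
      · have : (Nat.card N).factorization 5 ≤ 1 := by
          by_contra h
          exact absurd ((Nat.pow_dvd_pow 5 (by omega : 2 ≤ (Nat.card N).factorization 5)).trans hle)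
            (by norm_num)
        interval_cases (Nat.card N).factorization 5 <;> decide
      · exact absurd hsN h11
    have hSC : S ≤ centralizer ((zpowers x' : Subgroup G) : Set G) := by
      have key : ∀ a ∈ [1, 2, 4, 8, 16, 3, 9, 5], ∀ c < 17, c ∣ a → a % 11 = c % 11 → a = c := by
        decide
      have hc17 : Nat.card (S ⊓ centralizer ((zpowers x' : Subgroup G) : Set G) : Subgroup G) < 17 := by
        have h16 : Nat.card S ≤ 16 := by
          have : ∀ a ∈ [1, 2, 4, 8, 16, 3, 9, 5], a ≤ 16 := by decide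
          exact this _ hS720
        have := Nat.le_of_dvd Nat.card_pos hd
        omega
      have := key _ hS720 _ hc17 hd hmod
      exact (eq_of_le_of_card_ge inf_le_left this.le).ge.trans inf_le_right
    obtain ⟨g, hg⟩ := exists_conj_zpowers (fac_eleven hord) hx hx'
    have hmap : S.map (MulAut.conj g).toMonoidHom ≤ N ⊓ centralizer ({x} : Set G) := by
      rintro _ ⟨u, hu, rfl⟩
      refine ⟨?_, ?_⟩
      · obtain ⟨u', -, rfl⟩ := hu
        exact Normal.conj_mem inferInstance _ u'.2 g
      · show (MulAut.conj g) u ∈ centralizer ({x} : Set G)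
        rw [← centralizer_zpowers x, mem_centralizer_iff]
        intro w hw
        rw [← hg] at hw
        obtain ⟨v, hv, rfl⟩ := hw
        show MulAut.conj g v * MulAut.conj g u = MulAut.conj g u * MulAut.conj g v
        rw [← map_mul, ← map_mul, mem_centralizer_iff.1 (hSC hu) v hv]
    have := card_dvd_of_le hmap
    rw [card_map_of_injective (MulAut.conj g).injective, hScard] at this
    exact (hs.pow_dvd_iff_le_factorization Nat.card_pos.ne').1 this
  exact (eq_of_le_of_card_ge inf_le_left (Nat.le_of_dvd Nat.card_pos hdvd)).ge.trans inf_le_right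

/-- a normal subgroup containing an element of order 11 -/
theorem frattini_eleven (N : Subgroup G) [N.Normal] {x : G} (hx : orderOf x = 11) (hxN : x ∈ N) :
    Nat.card N * Nat.card (normalizer ((zpowers x : Subgroup G) : Set G)) =
      7920 * Nat.card (N ⊓ normalizer ((zpowers x : Subgroup G) : Set G) : Subgroup G) := by
  haveI : Fact (Nat.Prime 11) := ⟨by norm_num⟩
  set H := normalizer ((zpowers x : Subgroup G) : Set G)
  have hfac : (Nat.card N).factorization 11 = 1 := by
    refine le_antisymm (le_of_le_of_eq ?_ (fac_eleven hord)) ?_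
    · exact (Nat.factorization_le_iff_dvd Nat.card_pos.ne' Nat.card_pos.ne').2 (card_subgroup_dvd_card N) 11
    · exact (Fact.out : Nat.Prime 11).factorization_pos_of_dvd Nat.card_pos.ne' (hx ▸ orderOf_dvd_card hxN)
  let P : Sylow 11 N := Sylow.ofCard ((zpowers x).subgroupOf N) (by
    rw [Nat.card_congr (subgroupOfEquivOfLe (zpowers_le.2 hxN)).toEquiv, Nat.card_zpowers, hx, hfac,
      pow_one])
  have hsup : H ⊔ N = ⊤ := by
    have := Sylow.normalizer_sup_eq_top P
    rwa [Sylow.coe_ofCard, subgroupOf_map_subtype, inf_eq_left.2 (zpowers_le.2 hxN)] at this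
  have h1 : (N.subgroupOf H).index = N.index := by
    show N.relIndex H = N.index
    rw [← relIndex_sup_right, hsup, relIndex_top_right]
  have h2 : Nat.card (N ⊓ H : Subgroup G) * (N.subgroupOf H).index = Nat.card H := by
    rw [← Nat.card_congr (subgroupOfEquivOfLe (inf_le_right : N ⊓ H ≤ H)).toEquiv, inf_subgroupOf_right]
    exact card_mul_index _
  rw [← h2, h1, ← hord, ← N.card_mul_index]
  ring

variable {A : Set ℕ} (hsplit : Splits G A)

include hsplit

theorem iff_of_dvd {g : G} {r : ℕ} (hg : (orderOf g).Prime) (hr : r.Prime)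
    (h : r ∣ Nat.card (centralizer ({g} : Set G))) : orderOf g ∈ A ↔ r ∈ A := by
  haveI : Fact r.Prime := ⟨hr⟩
  obtain ⟨v, hv, hvo⟩ := exists_orderOf h
  have := hsplit g v hg (hvo ▸ hr) (mem_centralizer_singleton_iff.1 hv).symm
  rwa [hvo] at this

/-- `5` is alone: an element of order five normalising an element of order eleven -/
theorem five_fixed_one {C : Subgroup G} {y : G} (hy : orderOf y = 5) (_h5 : ¬ 5 ∣ Nat.card C)
    (hyC : y ∈ normalizer (C : Set G)) (hA : ∀ r, r.Prime → r ∣ Nat.card C → ¬ (5 ∈ A ↔ r ∈ A)) :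
    Nat.card C % 5 = 1 := by
  haveI : Fact (Nat.Prime 5) := ⟨by norm_num⟩
  have hmod := card_modEq_inf_centralizer (zpowers y) C
    (IsPGroup.of_card (n := 1) (by rw [Nat.card_zpowers, hy, pow_one])) (zpowers_le.2 hyC)
  have h1 : Nat.card (C ⊓ centralizer ((zpowers y : Subgroup G) : Set G) : Subgroup G) = 1 := by
    by_contra hne
    obtain ⟨r, hr, hrd⟩ := Nat.exists_prime_and_dvd hne
    refine hA r hr (hrd.trans (card_dvd_of_le inf_le_left)) ?_
    have := iff_of_dvd hord hsplit (g := y) (hy ▸ by norm_num) hr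
      (hrd.trans (card_dvd_of_le ((centralizer_zpowers y).le.trans' inf_le_right)))
    rwa [hy] at this
  rw [h1] at hmod
  exact hmod

omit hsplit in
theorem sylow_two_normalizer {x : G} (hN : Nat.card (normalizer ((zpowers x : Subgroup G) : Set G)) = 176) :
    ∃ S : Subgroup G, S ≤ normalizer ((zpowers x : Subgroup G) : Set G) ∧ Nat.card S = 16 := by
  haveI : Fact (Nat.Prime 2) := ⟨Nat.prime_two⟩
  obtain ⟨S, hS⟩ := Sylow.exists_subgroup_card_pow_prime (G := normalizer ((zpowers x : Subgroup G) : Set G)) 2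
    (n := 4) (by rw [hN]; norm_num)
  exact ⟨S.map (Subgroup.subtype _), map_subtype_le _, by
    rw [card_map_of_injective (Subgroup.subtype_injective _), hS]; norm_num⟩

/-- forty-five Sylow 11-subgroups are impossible -/
theorem not_fortyfive {x : G} (hx : orderOf x = 11)
    (hN : Nat.card (normalizer ((zpowers x : Subgroup G) : Set G)) = 176)
    (hB : ∃ r, r.Prime ∧ r ∣ Nat.card G ∧ ¬ (2 ∈ A ↔ r ∈ A)) : False := by
  classical
  haveI : Fact (Nat.Prime 2) := ⟨Nat.prime_two⟩
  haveI : Fact (Nat.Prime 11) := ⟨by norm_num⟩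
  set H := normalizer ((zpowers x : Subgroup G) : Set G) with hH
  set C := centralizer ({x} : Set G) with hC
  have hCH : C ≤ H := (centralizer_zpowers x).ge.trans (centralizer_le_normalizer _)
  have hCdvd : Nat.card C ∣ 176 := hN ▸ card_dvd_of_le hCH
  have hC88 : 88 ≤ Nat.card C := by
    have h1 : 176 ∣ Nat.card C * 10 := hN ▸ normalizer_dvd hx
    have := Nat.le_of_dvd (by have := Nat.card_pos (α := C); omega) h1
    by_contra hlt
    have h88 : 88 ∣ Nat.card C := by omega
    have := Nat.le_of_dvd Nat.card_pos h88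
    omega
  obtain ⟨S, hSH, hS⟩ := sylow_two_normalizer hord hN
  have hSP : IsPGroup 2 S := IsPGroup.of_card (n := 4) (by rw [hS]; norm_num)
  have hSC : S ≤ normalizer (C : Set G) := by
    intro s hs
    have hsn := hSH hs
    refine mem_normalizer_iff.2 fun c => ?_
    rw [hC, ← centralizer_zpowers x, mem_centralizer_iff, mem_centralizer_iff]
    constructor
    · intro h w hw
      have hw' := (mem_normalizer_iff'.1 hsn (s⁻¹ * w)).2 (by simpa using hw)
      have h2 := h _ hw'
      calc w * (s * c * s⁻¹) = s * (s⁻¹ * w * s * c) * s⁻¹ := by group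
        _ = s * (c * (s⁻¹ * w * s)) * s⁻¹ := by rw [h2]
        _ = s * c * s⁻¹ * w := by group
    · intro h w hw
      have h2 := h _ ((mem_normalizer_iff.1 hsn w).1 hw)
      have h3 : s * (w * c) * s⁻¹ = s * (c * w) * s⁻¹ := by
        calc s * (w * c) * s⁻¹ = s * w * s⁻¹ * (s * c * s⁻¹) := by group
          _ = s * c * s⁻¹ * (s * w * s⁻¹) := h2
          _ = s * (c * w) * s⁻¹ := by group
      exact mul_left_cancel (mul_right_cancel h3)
  -- a central involution of `H`
  set V := C ⊓ S with hV
  have hVcard : 2 ∣ Nat.card V := by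
    have hVd : Nat.card V ∣ 2 ^ 4 := by
      have := card_dvd_of_le (inf_le_right : V ≤ S)
      rw [hS] at this
      exact this
    obtain ⟨i, -, hi⟩ := (Nat.dvd_prime_pow Nat.prime_two).1 hVd
    rcases Nat.eq_zero_or_pos i with rfl | hi0
    · exfalso
      have hinj : Function.Injective fun p : C × S =>
          (⟨(p.1 : G) * p.2, H.mul_mem (hCH p.1.2) (hSH p.2.2)⟩ : H) := by
        rintro ⟨c, s⟩ ⟨c', s'⟩ h
        have h' : (c : G) * s = c' * s' := congrArg Subtype.val h
        have h1 : (c' : G)⁻¹ * c = s' * (s : G)⁻¹ := by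
          calc (c' : G)⁻¹ * c = (c' : G)⁻¹ * ((c : G) * s) * (s : G)⁻¹ := by group
            _ = s' * (s : G)⁻¹ := by rw [h']; group
        have hmem : (c' : G)⁻¹ * c ∈ V :=
          ⟨C.mul_mem (C.inv_mem c'.2) c.2, by rw [h1]; exact S.mul_mem s'.2 (S.inv_mem s.2)⟩
        have hbot : V = ⊥ := eq_bot_of_card_eq V (by simpa using hi)
        rw [hbot, mem_bot] at hmem
        have e1 : (c : G) = c' := (inv_mul_eq_one.1 hmem).symm
        have e2 : (s : G) = s' := by rw [e1] at h'; exact mul_left_cancel h'
        exact Prod.ext (Subtype.ext e1) (Subtype.ext e2)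
      have := Nat.card_le_card_of_injective _ hinj
      rw [Nat.card_prod, hS, hN] at this
      omega
    · rw [hi]; exact dvd_pow_self 2 (by omega)
  have hVfix := card_modEq_inf_centralizer S V hSP (by
    intro s hs
    refine mem_normalizer_iff.2 fun c => ?_
    simp only [hV, Subgroup.mem_inf]
    exact and_congr ((mem_normalizer_iff.1 (hSC hs)) c) ((mem_normalizer_iff.1 (le_normalizer hs)) c))
  have h2W : 2 ∣ Nat.card (V ⊓ centralizer (S : Set G) : Subgroup G) :=
    hVfix.dvd_iff (dvd_refl 2) |>.1 hVcard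
  obtain ⟨j, ⟨⟨hjC, -⟩, hjS⟩, hj⟩ := exists_orderOf h2W
  have hj2 : j * j = 1 := by
    have := pow_orderOf_eq_one j
    rwa [hj, pow_two] at this
  set Cj := centralizer ({j} : Set G) with hCj
  have hxCj : x ∈ Cj := mem_centralizer_singleton_iff.2 (mem_centralizer_singleton_iff.1 hjC).symm
  have hHCj : H ≤ Cj := by
    have h1 : zpowers x ⊔ S ≤ Cj := sup_le (zpowers_le.2 hxCj) fun s hs =>
      mem_centralizer_singleton_iff.2 (mem_centralizer_iff.1 hjS s hs)
    have h2 : zpowers x ⊔ S = H := by
      refine eq_of_le_of_card_ge (sup_le le_normalizer hSH) ?_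
      rw [hN]
      refine Nat.le_of_dvd Nat.card_pos ?_
      refine (show Nat.Coprime 11 16 by norm_num).mul_dvd_of_dvd_of_dvd ?_ ?_
      · rw [← hx, ← Nat.card_zpowers]; exact card_dvd_of_le le_sup_left
      · rw [← hS]; exact card_dvd_of_le le_sup_right
    exact h2 ▸ h1
  have hjnc : j ∉ center G := by
    intro h
    obtain ⟨r, hr, hrG, hne⟩ := hB
    refine hne ?_
    have := iff_of_dvd hord hsplit (g := j) (hj ▸ Nat.prime_two) hr (by
      rw [show centralizer ({j} : Set G) = ⊤ from eq_top_iff.2 fun g _ =>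
        mem_centralizer_singleton_iff.2 (Subgroup.mem_center_iff.1 h g), card_top]
      exact hrG)
    rwa [hj] at this
  have hCjH : Cj = H := by
    let P : Sylow 11 Cj := Sylow.ofCard ((zpowers x).subgroupOf Cj) (by
      rw [Nat.card_congr (subgroupOfEquivOfLe (zpowers_le.2 hxCj)).toEquiv, Nat.card_zpowers, hx]
      have hfac : (Nat.card Cj).factorization 11 = 1 := by
        refine le_antisymm (le_of_le_of_eq ?_ (fac_eleven hord)) ?_
        · exact (Nat.factorization_le_iff_dvd Nat.card_pos.ne' Nat.card_pos.ne').2 (card_subgroup_dvd_card Cj) 11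
        · exact (Fact.out : Nat.Prime 11).factorization_pos_of_dvd Nat.card_pos.ne' (hx ▸ orderOf_dvd_card hxCj)
      rw [hfac, pow_one])
    have hnorm : normalizer ((P : Subgroup Cj) : Set Cj) = H.subgroupOf Cj := by
      rw [Sylow.coe_ofCard, hH, subgroupOf_normalizer_eq (zpowers_le.2 hxCj)]
    have h176 : Nat.card (H.subgroupOf Cj) = 176 := by
      rw [Nat.card_congr (subgroupOfEquivOfLe hHCj).toEquiv, hN]
    have hk : (H.subgroupOf Cj).index % 11 = 1 := by
      have h1 := card_sylow_modEq_one 11 Cj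
      rw [P.card_eq_index_normalizer] at h1
      rw [← hnorm]
      exact h1
    have hmul : 176 * (H.subgroupOf Cj).index = Nat.card Cj := by
      rw [← h176]; exact card_mul_index _
    have hdiv : (H.subgroupOf Cj).index ∣ 45 := by
      have h1 : 176 * (H.subgroupOf Cj).index ∣ 176 * 45 := by
        rw [hmul, show 176 * 45 = Nat.card G by rw [hord]]
        exact card_subgroup_dvd_card Cj
      exact (Nat.mul_dvd_mul_iff_left (by norm_num)).1 h1
    have key : ∀ k < 46, k ∣ 45 → k % 11 = 1 → k = 1 ∨ k = 45 := by decide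
    rcases key _ (Nat.lt_succ_of_le (Nat.le_of_dvd (by norm_num) hdiv)) hdiv hk with h | h
    · refine (eq_of_le_of_card_ge hHCj ?_).symm
      rw [hN, ← hmul, h]
    · exfalso
      apply hjnc
      rw [h] at hmul
      have htop : Cj = ⊤ := eq_top_of_card_eq _ (by rw [← hmul, hord])
      refine Subgroup.mem_center_iff.2 fun g => ?_
      exact mem_centralizer_singleton_iff.1 (htop.symm ▸ mem_top g : g ∈ Cj)
  have hjx : ∀ g : G, (g * j * g⁻¹) * x = x * (g * j * g⁻¹) → g * j * g⁻¹ = j := by
    intro g hg
    have hgx : g⁻¹ * x * g ∈ Cj := by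
      refine mem_centralizer_singleton_iff.2 ?_
      calc g⁻¹ * x * g * j = g⁻¹ * (x * (g * j * g⁻¹)) * g := by group
        _ = g⁻¹ * (g * j * g⁻¹ * x) * g := by rw [hg]
        _ = j * (g⁻¹ * x * g) := by group
    rw [hCjH] at hgx
    have hmem : g⁻¹ * x * g ∈ zpowers x := by
      by_contra hnot
      -- two subgroups of order 11 in `H`
      have hle : zpowers (g⁻¹ * x * g) ≤ H := zpowers_le.2 hgx
      have hox : orderOf (g⁻¹ * x * g) = 11 := by
        rw [show g⁻¹ * x * g = MulAut.conj g⁻¹ x by simp, MulEquiv.orderOf_eq, hx]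
      have hmod := card_modEq_inf_centralizer (zpowers (g⁻¹ * x * g)) (zpowers x)
        (IsPGroup.of_card (n := 1) (by rw [Nat.card_zpowers, hox, pow_one])) hle
      have hdisj : Disjoint (zpowers x) (zpowers (g⁻¹ * x * g)) := by
        rw [disjoint_iff]
        by_contra hne
        have hd : Nat.card (zpowers x ⊓ zpowers (g⁻¹ * x * g) : Subgroup G) ∣ 11 := by
          have := card_dvd_of_le (inf_le_left : zpowers x ⊓ zpowers (g⁻¹ * x * g) ≤ _)
          rwa [Nat.card_zpowers, hx] at this
        rcases (Nat.dvd_prime (by norm_num)).1 hd with h | h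
        · exact hne (eq_bot_of_card_eq _ h)
        · have := eq_of_le_of_card_ge (inf_le_left : zpowers x ⊓ zpowers (g⁻¹ * x * g) ≤ _)
            (by rw [h, Nat.card_zpowers, hx])
          have h2 : zpowers x ≤ zpowers (g⁻¹ * x * g) := this.ge.trans inf_le_right
          have h3 := eq_of_le_of_card_ge h2 (by rw [Nat.card_zpowers, Nat.card_zpowers, hox, hx])
          exact hnot (h3 ▸ mem_zpowers _)
      rw [Nat.card_zpowers, hx] at hmod
      have hfix : Nat.card (zpowers x ⊓ centralizer ((zpowers (g⁻¹ * x * g) : Subgroup G) : Set G) :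
          Subgroup G) = 11 := by
        have hd := card_dvd_of_le (inf_le_left : zpowers x ⊓
          centralizer ((zpowers (g⁻¹ * x * g) : Subgroup G) : Set G) ≤ _)
        rw [Nat.card_zpowers, hx] at hd
        rcases (Nat.dvd_prime (by norm_num)).1 hd with h | h
        · rw [h] at hmod; exact absurd hmod (by decide)
        · exact h
      have hcent := eq_of_le_of_card_ge (inf_le_left : zpowers x ⊓
          centralizer ((zpowers (g⁻¹ * x * g) : Subgroup G) : Set G) ≤ _)
        (by rw [hfix, Nat.card_zpowers, hx])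
      have hxc : x ∈ centralizer ((zpowers (g⁻¹ * x * g) : Subgroup G) : Set G) :=
        (hcent.ge.trans inf_le_right) (mem_zpowers x)
      -- `H` has Sylow 11-subgroups of order 11
      have hgC : g⁻¹ * x * g ∈ C := mem_centralizer_singleton_iff.2
        (mem_centralizer_iff.1 hxc _ (mem_zpowers _))
      have hP11 : IsPGroup 11 (zpowers x ⊔ zpowers (g⁻¹ * x * g) : Subgroup G) :=
        (IsPGroup.of_card (n := 1) (by rw [Nat.card_zpowers, hx, pow_one])).to_sup_of_normal_left'
          (IsPGroup.of_card (n := 1) (by rw [Nat.card_zpowers, hox, pow_one]))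
          (zpowers_le.2 hgx)
      obtain ⟨i, hi⟩ := IsPGroup.iff_card.1 hP11
      have hdvd := hi ▸ card_dvd_of_le (sup_le (le_normalizer : zpowers x ≤ H) hle)
      rw [hN] at hdvd
      have hi1 : i ≤ 1 := by
        by_contra h
        exact absurd ((Nat.pow_dvd_pow 11 (by omega : 2 ≤ i)).trans hdvd) (by norm_num)
      have := eq_of_le_of_card_ge (le_sup_left : zpowers x ≤ zpowers x ⊔ zpowers (g⁻¹ * x * g)) (by
        rw [hi, Nat.card_zpowers, hx]
        exact (Nat.pow_le_pow_right (by norm_num) hi1).trans (le_of_eq (pow_one 11)))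
      exact hnot (this.ge (le_sup_right (a := zpowers x) (mem_zpowers _)))
    have hgn : g⁻¹ ∈ H := by
      have hz : zpowers (g⁻¹ * x * g) = zpowers x :=
        eq_of_le_of_card_ge (zpowers_le.2 hmem) (by
          rw [Nat.card_zpowers, Nat.card_zpowers,
            show g⁻¹ * x * g = MulAut.conj g⁻¹ x by simp, MulEquiv.orderOf_eq])
      refine mem_normalizer_iff.2 fun y => ⟨?_, ?_⟩
      · rintro ⟨k, rfl⟩
        rw [← hz]
        refine ⟨k, ?_⟩
        show (g⁻¹ * x * g) ^ k = g⁻¹ * x ^ k * g⁻¹⁻¹
        rw [← conj_zpow, inv_inv]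
      · intro hy
        rw [← hz] at hy
        obtain ⟨k, hk⟩ := hy
        refine ⟨k, (MulAut.conj g⁻¹).injective ?_⟩
        show MulAut.conj g⁻¹ (x ^ k) = MulAut.conj g⁻¹ y
        have e : g⁻¹ * x * g = MulAut.conj g⁻¹ x := by simp
        rw [map_zpow, ← e]
        exact hk
    rw [← hCjH] at hgn
    have hcomm := mem_centralizer_singleton_iff.1 ((Cj).inv_mem hgn)
    rw [inv_inv] at hcomm
    rw [hcomm, mul_inv_cancel_right]
  -- no other conjugate of `j` commutes with `j`
  have hconjD : ∀ (g u : G), (∃ k, k * j * k⁻¹ = u) → ∃ k, k * j * k⁻¹ = g * u * g⁻¹ := by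
    rintro g u ⟨k, rfl⟩
    exact ⟨g * k, by group⟩
  have hiso : ∀ u : G, (∃ g, g * j * g⁻¹ = u) → u * j = j * u → u = j := by
    intro t ⟨g, hgt⟩ htj
    by_contra hne
    have htH : t ∈ H := hCjH ▸ mem_centralizer_singleton_iff.2 htj
    have ht2 : t * t = 1 := by
      rw [← hgt]
      calc g * j * g⁻¹ * (g * j * g⁻¹) = g * (j * j) * g⁻¹ := by group
        _ = 1 := by rw [hj2]; group
    have htinv : t⁻¹ = t := inv_eq_of_mul_eq_one_right ht2
    have hw : t * x * t⁻¹ ∈ zpowers x := (mem_normalizer_iff.1 htH x).1 (mem_zpowers x)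
    have hcomm : x * (t * x * t⁻¹) = t * x * t⁻¹ * x :=
      congrArg Subtype.val ((inferInstance : IsMulCommutative (zpowers x)).is_comm.comm
        ⟨x, mem_zpowers x⟩ ⟨_, hw⟩)
    have hxw : x * (t * x * t⁻¹) = 1 := by
      by_contra hz
      have hzmem : x * (t * x * t⁻¹) ∈ zpowers x := mul_mem (mem_zpowers x) hw
      have hzo : orderOf (x * (t * x * t⁻¹)) = 11 := by
        rcases (Nat.dvd_prime (by norm_num)).1 (hx ▸ Nat.card_zpowers x ▸ orderOf_dvd_card hzmem) with h | h
        · exact absurd (orderOf_eq_one_iff.1 h) hz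
        · exact h
      have hgen : zpowers (x * (t * x * t⁻¹)) = zpowers x :=
        eq_of_le_of_card_ge (zpowers_le.2 hzmem) (by rw [Nat.card_zpowers, Nat.card_zpowers, hzo, hx])
      have htz : x * (t * x * t⁻¹) ∈ centralizer ({t} : Set G) := by
        refine mem_centralizer_singleton_iff.2 ?_
        rw [htinv]
        calc x * (t * x * t) * t = x * t * x * (t * t) := by group
          _ = x * t * x := by rw [ht2, mul_one]
          _ = (t * t) * (x * t * x) := by rw [ht2, one_mul]
          _ = t * (t * x * t * x) := by group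
          _ = t * (x * (t * x * t)) := by
            have := hcomm
            rw [htinv] at this
            rw [this]
      have hxt : x ∈ centralizer ({t} : Set G) := by
        have : zpowers x ≤ centralizer ({t} : Set G) := hgen ▸ zpowers_le.2 htz
        exact this (mem_zpowers x)
      exact hne (hgt ▸ hjx g (by rw [hgt]; exact (mem_centralizer_singleton_iff.1 hxt).symm))
    -- the translates of `t`
    let T : Fin 11 → G := fun i => x ^ (i : ℕ) * t * (x ^ (i : ℕ))⁻¹
    have hTD : ∀ i, ∃ k, k * j * k⁻¹ = T i := fun i => hconjD _ t ⟨g, hgt⟩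
    have hxj : ∀ n : ℕ, Commute (x ^ n) j := fun n =>
      (Commute.pow_left (mem_centralizer_singleton_iff.1 hxCj) n)
    have hTj : ∀ i, Commute (T i) j := fun i => ((hxj _).mul_left htj).mul_left (hxj _).inv_left
    have htx : t * x * t⁻¹ = x⁻¹ := eq_inv_of_mul_eq_one_right hxw
    have htxp : ∀ n : ℕ, t * x ^ n = (x ^ n)⁻¹ * t := fun n => by
      have e : (t * x * t⁻¹) ^ n = (x⁻¹) ^ n := by rw [htx]
      rw [conj_pow, inv_pow] at e
      exact mul_inv_eq_iff_eq_mul.1 e
    have hT2 : ∀ i, T i = x ^ (2 * (i : ℕ)) * t := fun i => by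
      have e := htxp (i : ℕ)
      have e2 : t * (x ^ (i : ℕ))⁻¹ = x ^ (i : ℕ) * t := by
        calc t * (x ^ (i : ℕ))⁻¹ = x ^ (i : ℕ) * ((x ^ (i : ℕ))⁻¹ * t) * (x ^ (i : ℕ))⁻¹ := by group
          _ = x ^ (i : ℕ) * (t * x ^ (i : ℕ)) * (x ^ (i : ℕ))⁻¹ := by rw [e]
          _ = x ^ (i : ℕ) * t := by group
      show x ^ (i : ℕ) * t * (x ^ (i : ℕ))⁻¹ = _
      rw [mul_assoc, e2, ← mul_assoc, two_mul, pow_add]
    have hTinj : Function.Injective T := by
      intro a b hab
      rw [hT2, hT2] at hab
      have := mul_right_cancel hab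
      rw [pow_inj_mod, hx] at this
      apply Fin.ext
      omega
    have hT1 : ∀ (u : G), (∃ k, k * j * k⁻¹ = u) → u ≠ j → ∀ a b, Commute u (T a) → Commute u (T b) → a = b := by
      rintro u ⟨k, rfl⟩ hu a b ha hb
      by_contra hab
      apply hu
      apply hjx
      -- the product of the two translates has order 11
      have hprod : Commute (k * j * k⁻¹) (T a * T b) := ha.mul_right hb
      have hval : T a * T b = x ^ (2 * (a : ℕ)) * (x ^ (2 * (b : ℕ)))⁻¹ := by
        rw [hT2, hT2]
        calc x ^ (2 * (a : ℕ)) * t * (x ^ (2 * (b : ℕ)) * t)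
            = x ^ (2 * (a : ℕ)) * (t * x ^ (2 * (b : ℕ))) * t := by group
          _ = x ^ (2 * (a : ℕ)) * ((x ^ (2 * (b : ℕ)))⁻¹ * t) * t := by rw [htxp]
          _ = x ^ (2 * (a : ℕ)) * (x ^ (2 * (b : ℕ)))⁻¹ * (t * t) := by group
          _ = _ := by rw [ht2, mul_one]
      have hne1 : T a * T b ≠ 1 := by
        intro h1
        rw [hval, mul_inv_eq_one, pow_inj_mod, hx] at h1
        exact hab (Fin.ext (by omega))
      have hmem : T a * T b ∈ zpowers x := by
        rw [hval]; exact mul_mem (pow_mem (mem_zpowers x) _) (inv_mem (pow_mem (mem_zpowers x) _))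
      have hgen : zpowers (T a * T b) = zpowers x := by
        refine eq_of_le_of_card_ge (zpowers_le.2 hmem) ?_
        rw [Nat.card_zpowers, Nat.card_zpowers, hx]
        rcases (Nat.dvd_prime (by norm_num)).1 (hx ▸ Nat.card_zpowers x ▸ orderOf_dvd_card hmem) with h | h
        · exact absurd (orderOf_eq_one_iff.1 h) hne1
        · rw [h]
      have : x ∈ centralizer ({k * j * k⁻¹} : Set G) := by
        have h1 : zpowers x ≤ centralizer ({k * j * k⁻¹} : Set G) :=
          hgen ▸ zpowers_le.2 (mem_centralizer_singleton_iff.2 hprod.eq.symm)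
        exact h1 (mem_zpowers x)
      exact (mem_centralizer_singleton_iff.1 this).symm
    -- counting
    let D : Type _ := {u : G // (∃ k, k * j * k⁻¹ = u) ∧ u ≠ j}
    have hD : Nat.card D ≤ 44 := by
      have hcard : Nat.card {u : G // ∃ k, k * j * k⁻¹ = u} = 45 := by
        have h := (MulAction.stabilizer (ConjAct G) j).index_mul_card
        have hst : Nat.card (MulAction.stabilizer (ConjAct G) j) = 176 := by
          have h1 := (congrArg (fun K : Subgroup G => Nat.card K) hCjH).trans hN
          rw [← h1]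
          refine Nat.card_congr (ConjAct.ofConjAct.toEquiv.subtypeEquiv fun k => ?_)
          show k • j = j ↔ ConjAct.ofConjAct k ∈ Cj
          rw [hCj, mem_centralizer_singleton_iff, ConjAct.smul_def, mul_inv_eq_iff_eq_mul]
        rw [hst, index_stabilizer, show Nat.card (ConjAct G) = 7920 from hord] at h
        have horb : Nat.card {u : G // ∃ k, k * j * k⁻¹ = u} =
            (MulAction.orbit (ConjAct G) j).ncard := by
          rw [← Nat.card_coe_set_eq]
          refine Nat.card_congr (Equiv.subtypeEquivRight fun u => ?_)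
          constructor
          · rintro ⟨k, hk⟩
            exact ⟨ConjAct.toConjAct k, by simpa [ConjAct.smul_def] using hk⟩
          · rintro ⟨k, hk⟩
            exact ⟨ConjAct.ofConjAct k, by simpa [ConjAct.smul_def] using hk⟩
        omega
      have hlt : Nat.card D < Nat.card {u : G // ∃ k, k * j * k⁻¹ = u} := by
        let f : D → {u : G // ∃ k, k * j * k⁻¹ = u} := fun u => ⟨u.1, u.2.1⟩
        have hfi : Function.Injective f := fun a b h => by
          have h' := congrArg (fun z : {u : G // ∃ k, k * j * k⁻¹ = u} => (z : G)) h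
          exact Subtype.ext h'
        have hfs : ¬ Function.Surjective f := fun hs => by
          obtain ⟨a, ha⟩ := hs ⟨j, 1, by group⟩
          exact a.2.2 (congrArg Subtype.val ha)
        haveI := Fintype.ofFinite D
        haveI := Fintype.ofFinite {u : G // ∃ k, k * j * k⁻¹ = u}
        rw [Nat.card_eq_fintype_card, Nat.card_eq_fintype_card]
        exact Fintype.card_lt_of_injective_not_surjective f hfi hfs
      omega
    -- the ten other translates of `j` around each translate of `t`
    obtain ⟨g₀, hg₀⟩ : ∃ g₀ : G, g₀ * j * g₀⁻¹ = t := ⟨g, hgt⟩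
    have key : ∀ i : Fin 11, ∃ f : Fin 10 → D, Function.Injective f ∧
        ∀ m, Commute (f m : G) (T i) := by
      intro i
      -- transport the translates of `t` to neighbours of `T i`
      set h₀ := x ^ (i : ℕ) * g₀
      have hTi : h₀ * j * h₀⁻¹ = T i := by
        show x ^ (i : ℕ) * g₀ * j * (x ^ (i : ℕ) * g₀)⁻¹ = x ^ (i : ℕ) * t * (x ^ (i : ℕ))⁻¹
        rw [← hg₀]
        group
      let e : Fin 11 → G := fun m => h₀ * T m * h₀⁻¹
      have hei : Function.Injective e := fun a b h => hTinj (mul_left_cancel (mul_right_cancel h))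
      have heT : ∀ m, Commute (e m) (T i) := fun m => by
        rw [← hTi]
        exact (hTj m).map (MulAut.conj h₀).toMonoidHom
      obtain ⟨m₀, hm₀⟩ : ∃ m₀ : Fin 11, ∀ m, e m = j → m = m₀ := by
        by_cases h : ∃ m, e m = j
        · obtain ⟨m, hm⟩ := h
          exact ⟨m, fun m' hm' => hei (hm'.trans hm.symm)⟩
        · exact ⟨0, fun m hm => absurd ⟨m, hm⟩ h⟩
      refine ⟨fun m => ⟨e (m₀.succAbove m), hconjD h₀ _ (hTD _),
        fun h => Fin.succAbove_ne m₀ m (hm₀ _ h)⟩, ?_, fun m => heT _⟩
      intro a b h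
      exact Fin.succAbove_right_injective (hei (congrArg Subtype.val h))
    choose f hf hfc using key
    have hinj : Function.Injective fun p : Fin 11 × Fin 10 => f p.1 p.2 := by
      rintro ⟨a, m⟩ ⟨b, m'⟩ h
      have hab : a = b := by
        refine hT1 (f a m : G) (f a m).2.1 (f a m).2.2 a b (hfc a m) ?_
        have h' : f a m = f b m' := h
        rw [h']
        exact hfc b m'
      subst hab
      exact Prod.ext rfl (hf a h)
    have := Nat.card_le_card_of_injective _ hinj
    rw [Nat.card_prod, Nat.card_fin, Nat.card_fin] at this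
    omega
  -- Glauberman
  let S' : Sylow 2 G := Sylow.ofCard S (by
    rw [hS, hord, Nat.factorization_def _ Nat.prime_two,
      show 7920 = 2 ^ 4 * 495 by norm_num, padicValNat.mul (by norm_num) (by norm_num),
      padicValNat.prime_pow, padicValNat.eq_zero_of_not_dvd (by norm_num)]
    norm_num)
  obtain ⟨N, hNn, hNodd, hNc⟩ := CfsgLib.ZStar.zstar_of_sylow S' hj (fun g hg =>
    hiso _ ⟨g, rfl⟩ (mem_centralizer_iff.1 hjS _ hg))
  haveI := hNn
  have hNdvd : Nat.card N ∣ 7920 := hord ▸ card_subgroup_dvd_card N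
  have core : ∀ M : Subgroup G, M.Normal → ¬ 11 ∣ Nat.card M → Odd (Nat.card M) → Nat.card M = 1 := by
    intro M hM h11 hodd
    haveI := hM
    have h1 := (card_dvd_of_le (le_centralizer_eleven hord M h11 hx)).trans hCdvd
    have h2 := Nat.Coprime.dvd_of_dvd_mul_left
      ((Nat.Coprime.pow_right 4 (Nat.coprime_two_right.2 hodd)) : Nat.Coprime (Nat.card M) (2 ^ 4))
      (show Nat.card M ∣ 2 ^ 4 * 11 by simpa using h1)
    rcases (Nat.dvd_prime (by norm_num)).1 h2 with h | h
    · exact h
    · exact absurd (dvd_of_eq h.symm) h11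
  by_cases h11 : 11 ∣ Nat.card N
  · obtain ⟨x', hx'N, hx'⟩ := exists_orderOf h11
    obtain ⟨g, hg⟩ := exists_conj_zpowers (fac_eleven hord) hx hx'
    have hxN : x ∈ N := by
      have : x ∈ (zpowers x').map (MulAut.conj g).toMonoidHom := hg ▸ mem_zpowers x
      obtain ⟨v, hv, rfl⟩ := this
      exact hNn.conj_mem _ (zpowers_le.2 hx'N hv) g
    have hfr := frattini_eleven hord N hx hxN
    rw [show normalizer ((zpowers x : Subgroup G) : Set G) = H from rfl, hN] at hfr
    have hmeet : Nat.card (N ⊓ H : Subgroup G) = 11 := by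
      have h1 : Nat.card (N ⊓ H : Subgroup G) ∣ Nat.card N := card_dvd_of_le inf_le_left
      have h2 : Nat.card (N ⊓ H : Subgroup G) ∣ 176 := hN ▸ card_dvd_of_le inf_le_right
      have h3 : 11 ∣ Nat.card (N ⊓ H : Subgroup G) := by
        rw [← hx, ← Nat.card_zpowers]
        exact card_dvd_of_le (le_inf (zpowers_le.2 hxN) le_normalizer)
      have hodd : Odd (Nat.card (N ⊓ H : Subgroup G)) := hNodd.of_dvd_nat h1
      rw [Nat.odd_iff] at hodd
      have key : ∀ k < 177, k ∣ 176 → 11 ∣ k → k % 2 = 1 → k = 11 := by decide +kernel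
      exact key _ (Nat.lt_succ_of_le (Nat.le_of_dvd (by norm_num) h2)) h2 h3 hodd
    obtain ⟨K, hKn, hK11, hK⟩ := exists_complement N hx hxN (fac_eleven hord) hmeet
    have hN495 : Nat.card N = 495 := by rw [hmeet] at hfr; omega
    have hK45 : Nat.card K = 45 := by omega
    have := core K hKn hK11 (by rw [hK45]; decide)
    omega
  · have h1 := core N hNn h11 hNodd
    have hbot : N = ⊥ := eq_bot_of_card_eq N h1
    apply hjnc
    rw [Subgroup.mem_center_iff]
    intro g
    have := hNc g
    rw [hbot, mem_bot] at this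
    calc g * j = 1 * (g * j) := (one_mul _).symm
      _ = (j * g * j⁻¹ * g⁻¹) * (g * j) := by rw [this]
      _ = j * g := by group

end Cfsg.Agent.GK7920
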