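import Cfsg.Agent.GK7920.Main

/-!
Groups of order 7920 with disconnected prime graph are simple.
-/

namespace Cfsg.Agent.GK7920

open Subgroup MulAction

set_option linter.style.haveILetI false

theorem isSimpleGroup {G : Type*} [Group G] [Finite G] (hord : Nat.card G = 7920) {A : Set ℕ}
    (hsplit : Splits G A) {a b : ℕ} (ha : a.Prime) (had : a ∣ Nat.card G) (haA : a ∈ A)
    (hb : b.Prime) (hbd : b ∣ Nat.card G) (hbA : b ∉ A) : IsSimpleGroup G := by
  haveI : Fact (Nat.Prime 5) := ⟨by norm_num⟩
  haveI : Fact (Nat.Prime 11) := ⟨by norm_num⟩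
  haveI : Fact (Nat.Prime 3) := ⟨by norm_num⟩
  haveI : Fact (Nat.Prime 2) := ⟨by norm_num⟩
  have hr : ∃ r, r.Prime ∧ r ∣ Nat.card G ∧ ¬ (11 ∈ A ↔ r ∈ A) := by
    by_cases h : 11 ∈ A
    · exact ⟨b, hb, hbd, fun e => hbA (e.1 h)⟩
    · exact ⟨a, ha, had, fun e => h (e.2 haA)⟩
  obtain ⟨x, hx⟩ := exists_prime_orderOf_dvd_card' (G := G) 11 (by rw [hord]; norm_num)
  set C := centralizer ({x} : Set G) with hC
  set H := normalizer ((zpowers x : Subgroup G) : Set G) with hH
  have hCH : C ≤ H := (centralizer_zpowers x).ge.trans (centralizer_le_normalizer _)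
  have hiff : ∀ r, r.Prime → r ∣ Nat.card C → (11 ∈ A ↔ r ∈ A) := fun r hr h => by
    have := iff_of_dvd hord hsplit (g := x) (hx ▸ by norm_num) hr h
    rwa [hx] at this
  have hnd : Nat.card H ∣ Nat.card C * 10 := normalizer_dvd hx
  have h11C : 11 ∣ Nat.card C := hx ▸ orderOf_dvd_card (mem_centralizer_singleton_iff.2 rfl)
  have hCdvd : Nat.card C ∣ Nat.card H := card_dvd_of_le hCH
  have hHcases : Nat.card H = 7920 ∨ Nat.card H = 660 ∨ Nat.card H = 176 ∨ Nat.card H = 55 := by
    let P : Sylow 11 G := Sylow.ofCard (zpowers x) (by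
      rw [Nat.card_zpowers, hx, fac_eleven hord, pow_one])
    have h1 := card_sylow_modEq_one 11 G
    rw [P.card_eq_index_normalizer] at h1
    have h1' : H.index % 11 = 1 := h1
    have h2 : Nat.card H * H.index = 7920 := by rw [card_mul_index, hord]
    have h3 : H.index ∣ 720 := by
      have h4 : Nat.Coprime H.index 11 :=
        ((Nat.Prime.coprime_iff_not_dvd (by norm_num)).2 fun h => by omega).symm
      exact h4.dvd_of_dvd_mul_left (show H.index ∣ 11 * 720 from ⟨Nat.card H, by rw [mul_comm _ (Nat.card H), h2]⟩)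
    have key : ∀ k < 721, k ∣ 720 → k % 11 = 1 → k = 1 ∨ k = 12 ∨ k = 45 ∨ k = 144 := by decide +kernel
    rcases key _ (Nat.lt_succ_of_le (Nat.le_of_dvd (by norm_num) h3)) h3 h1' with h | h | h | h <;>
      rw [h] at h2 <;> omega
  have hnormC : ∀ {y : G}, y ∈ H → y ∈ normalizer (C : Set G) := by
    intro y hy
    refine mem_normalizer_iff.2 fun c => ?_
    rw [hC, mem_centralizer_singleton_iff, mem_centralizer_singleton_iff]
    have hyx : y⁻¹ * x * y ∈ zpowers x := by
      have := (mem_normalizer_iff'.1 hy (y⁻¹ * x)).2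
      simpa [mul_assoc] using this (by simp)
    have hyx' : y * x * y⁻¹ ∈ zpowers x := (mem_normalizer_iff.1 hy x).1 (mem_zpowers x)
    constructor
    · intro h
      obtain ⟨k, hk⟩ := hyx
      have hck : Commute c (y⁻¹ * x * y) := hk ▸ (Commute.zpow_right h k)
      calc y * c * y⁻¹ * x = y * (c * (y⁻¹ * x * y)) * y⁻¹ := by group
        _ = y * (y⁻¹ * x * y * c) * y⁻¹ := by rw [hck.eq]
        _ = x * (y * c * y⁻¹) := by group
    · intro h
      obtain ⟨k, hk⟩ := hyx'
      have hck : Commute (y * c * y⁻¹) (y * x * y⁻¹) := hk ▸ (Commute.zpow_right h k)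
      have h2 : y * (c * x) * y⁻¹ = y * (x * c) * y⁻¹ := by
        calc y * (c * x) * y⁻¹ = y * c * y⁻¹ * (y * x * y⁻¹) := by group
          _ = y * x * y⁻¹ * (y * c * y⁻¹) := hck.eq
          _ = y * (x * c) * y⁻¹ := by group
      exact mul_left_cancel (mul_right_cancel h2)
  obtain ⟨r, hrp, hrd, hrne⟩ := hr
  have hrcases := prime_cases hord hrp hrd
  rcases hHcases with hH' | hH' | hH' | hH'
  · -- eleven normal
    exfalso
    rw [hH'] at hnd hCdvd
    have h792 : 792 ∣ Nat.card C := by omega
    have h2 : 2 ∣ Nat.card C := dvd_trans (by norm_num) h792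
    have h3 : 3 ∣ Nat.card C := dvd_trans (by norm_num) h792
    obtain rfl | rfl | rfl | rfl := hrcases
    · exact hrne (hiff 2 hrp h2)
    · exact hrne (hiff 3 hrp h3)
    · have h5 : ¬ 5 ∣ Nat.card C := fun h => hrne (hiff 5 hrp h)
      obtain ⟨y, hyH, hy⟩ := exists_orderOf (H := H) (p := 5) (by rw [hH']; norm_num)
      have hmod := five_fixed_one hord hsplit hy h5 (hnormC hyH)
        (fun s hs hsd e => hrne ((hiff s hs hsd).trans e.symm))
      obtain ⟨m, hm⟩ := h792
      have : m ∣ 10 := by
        rw [hm, show (7920 : ℕ) = 792 * 10 by norm_num] at hCdvd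
        exact (Nat.mul_dvd_mul_iff_left (by norm_num)).1 hCdvd
      have key : ∀ k < 11, k ∣ 10 → (792 * k) % 5 = 1 → 5 ∣ 792 * k := by decide
      exact h5 (hm ▸ key m (Nat.lt_succ_of_le (Nat.le_of_dvd (by norm_num) this)) this (hm ▸ hmod))
    · exact hrne Iff.rfl
  · -- twelve
    exfalso
    rw [hH'] at hnd hCdvd
    have h66 : 66 ∣ Nat.card C := by omega
    have h2 : 2 ∣ Nat.card C := dvd_trans (by norm_num) h66
    have h3 : 3 ∣ Nat.card C := dvd_trans (by norm_num) h66
    obtain rfl | rfl | rfl | rfl := hrcases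
    · exact hrne (hiff 2 hrp h2)
    · exact hrne (hiff 3 hrp h3)
    · have h5 : ¬ 5 ∣ Nat.card C := fun h => hrne (hiff 5 hrp h)
      obtain ⟨y, hyH, hy⟩ := exists_orderOf (H := H) (p := 5) (by rw [hH']; norm_num)
      have hmod := five_fixed_one hord hsplit hy h5 (hnormC hyH)
        (fun s hs hsd e => hrne ((hiff s hs hsd).trans e.symm))
      have hC66 : Nat.card C = 66 := by
        have key : ∀ k < 661, k ∣ 660 → 66 ∣ k → ¬ 5 ∣ k → k % 5 = 1 → k = 66 := by decide +kernel
        exact key _ (Nat.lt_succ_of_le (Nat.le_of_dvd (by norm_num) hCdvd)) hCdvd h66 h5 hmod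
      -- the subgroup of order three
      obtain ⟨T₀⟩ : Nonempty (Sylow 3 C) := inferInstance
      have hT₀ : Nat.card (T₀ : Subgroup C) = 3 := by
        rw [T₀.card_eq_multiplicity, hC66, Nat.factorization_def _ Nat.prime_three,
          show 66 = 3 ^ 1 * 22 by norm_num, padicValNat.mul (by norm_num) (by norm_num),
          padicValNat.prime_pow, padicValNat.eq_zero_of_not_dvd (by norm_num)]
        norm_num
      have hone : ∀ T : Sylow 3 C, T = T₀ := by
        have hcen : (⟨x, mem_centralizer_singleton_iff.2 rfl⟩ : C) ∈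
            normalizer ((T₀ : Subgroup C) : Set C) := by
          refine mem_normalizer_iff.2 fun u => ?_
          have : (⟨x, mem_centralizer_singleton_iff.2 rfl⟩ : C) * u *
              (⟨x, mem_centralizer_singleton_iff.2 rfl⟩ : C)⁻¹ = u := by
            apply Subtype.ext
            show x * (u : G) * x⁻¹ = u
            rw [mul_inv_eq_iff_eq_mul, mem_centralizer_singleton_iff.1 u.2]
          rw [this]
        have h33 : 33 ∣ Nat.card (normalizer ((T₀ : Subgroup C) : Set C)) := by
          refine (show Nat.Coprime 3 11 by norm_num).mul_dvd_of_dvd_of_dvd ?_ ?_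
          · exact (dvd_of_eq hT₀.symm).trans (card_dvd_of_le le_normalizer)
          · rw [← hx, ← Subgroup.orderOf_mk (a := x) (mem_centralizer_singleton_iff.2 rfl)]
            exact orderOf_dvd_card hcen
        have hidx : Nat.card (Sylow 3 C) = 1 := by
          have h1 := card_sylow_modEq_one 3 C
          rw [T₀.card_eq_index_normalizer] at h1 ⊢
          change (normalizer ((T₀ : Subgroup C) : Set C)).index ≡ 1 [MOD 3] at h1
          show (normalizer ((T₀ : Subgroup C) : Set C)).index = 1
          have hmul := (normalizer ((T₀ : Subgroup C) : Set C)).card_mul_index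
          rw [hC66] at hmul
          obtain ⟨m, hm⟩ := h33
          rw [hm] at hmul
          have h2' : (normalizer ((T₀ : Subgroup C) : Set C)).index ∣ 2 :=
            ⟨m, by
              have := hmul
              nlinarith⟩
          rcases (Nat.dvd_prime Nat.prime_two).1 h2' with h | h
          · exact h
          · rw [h] at h1
            exact absurd h1 (by decide)
        haveI := (Nat.card_eq_one_iff_unique.1 hidx).1
        exact fun T => Subsingleton.elim _ _
      set T : Subgroup G := (T₀ : Subgroup C).map C.subtype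
      have hyT : y ∈ normalizer (T : Set G) := by
        refine mem_normalizer_iff.2 fun u => ?_
        have hyC := hnormC hyH
        constructor
        · rintro ⟨v, hv, rfl⟩
          have hw : y * (v : G) * y⁻¹ ∈ C := (mem_normalizer_iff.1 hyC _).1 v.2
          refine ⟨⟨_, hw⟩, ?_, rfl⟩
          have ho : IsPGroup 3 (zpowers (⟨_, hw⟩ : C)) := by
            refine IsPGroup.of_card (n := ?_) ?_
            · exact (Nat.log 3 (orderOf (⟨_, hw⟩ : C)))
            · have hd : orderOf (⟨_, hw⟩ : C) ∣ 3 := by
                refine dvd_trans ?_ (dvd_of_eq hT₀)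
                rw [show orderOf (⟨_, hw⟩ : C) = orderOf v by
                  rw [← Subgroup.orderOf_coe (⟨_, hw⟩ : C), ← Subgroup.orderOf_coe v]
                  exact orderOf_injective (MulAut.conj y).toMonoidHom (MulAut.conj y).injective (v : G)]
                exact orderOf_dvd_card hv
              rw [Nat.card_zpowers]
              rcases (Nat.dvd_prime Nat.prime_three).1 hd with h | h <;> rw [h] <;> norm_num
          obtain ⟨Q, hQ⟩ := ho.exists_le_sylow
          exact hone Q ▸ hQ (mem_zpowers _)
        · intro h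
          obtain ⟨v, hv, hvu⟩ := h
          have hu : u ∈ C := (mem_normalizer_iff.1 hyC u).2 (hvu ▸ v.2)
          refine ⟨⟨u, hu⟩, ?_, rfl⟩
          have ho : IsPGroup 3 (zpowers (⟨u, hu⟩ : C)) := by
            refine IsPGroup.of_card (n := Nat.log 3 (orderOf (⟨u, hu⟩ : C))) ?_
            have hd : orderOf (⟨u, hu⟩ : C) ∣ 3 := by
              refine dvd_trans ?_ (dvd_of_eq hT₀)
              rw [show orderOf (⟨u, hu⟩ : C) = orderOf v by
                rw [← Subgroup.orderOf_coe (⟨u, hu⟩ : C), ← Subgroup.orderOf_coe v,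
                  show (v : G) = y * u * y⁻¹ from hvu]
                exact (orderOf_injective (MulAut.conj y).toMonoidHom (MulAut.conj y).injective u).symm]
              exact orderOf_dvd_card hv
            rw [Nat.card_zpowers]
            rcases (Nat.dvd_prime Nat.prime_three).1 hd with h | h <;> rw [h] <;> norm_num
          obtain ⟨Q, hQ⟩ := ho.exists_le_sylow
          exact hone Q ▸ hQ (mem_zpowers _)
      have hTC : T ≤ C := map_subtype_le _
      have hT3 : Nat.card T = 3 := by rw [card_map_of_injective C.subtype_injective, hT₀]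
      have := five_fixed_one hord hsplit hy (C := T) (by rw [hT3]; norm_num) hyT
        (fun s hs hsd e => hrne ((hiff s hs (hsd.trans (card_dvd_of_le hTC))).trans e.symm))
      rw [hT3] at this
      norm_num at this
    · exact hrne Iff.rfl
  · -- forty-five
    exfalso
    refine not_fortyfive hord hsplit hx hH' ⟨r, hrp, hrd, fun e => hrne ?_⟩
    rw [hH'] at hnd
    have h88 : 88 ∣ Nat.card C := by omega
    exact (hiff 2 Nat.prime_two (dvd_trans (by norm_num) h88)).trans e
  · -- one hundred and forty-four
    rw [hH'] at hnd hCdvd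
    have main : ∀ M : Subgroup G, M.Normal → ¬ 11 ∣ Nat.card M → M = ⊥ := by
      intro M hM h11
      haveI := hM
      have hle := le_centralizer_eleven hord M h11 hx
      have hd5 : Nat.card M ∣ 5 := by
        have h1 : Nat.card M ∣ 11 * 5 := ((card_dvd_of_le hle).trans hCdvd)
        exact (Nat.Coprime.symm ((Nat.Prime.coprime_iff_not_dvd (by norm_num)).2 h11)).dvd_of_dvd_mul_left h1
      rcases (Nat.dvd_prime (by norm_num)).1 hd5 with h | h
      · exact eq_bot_of_card_eq M h
      exfalso
      obtain ⟨y, hyM, hy⟩ := exists_orderOf (H := M) (p := 5) (by rw [h])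
      have hMy : zpowers y = M :=
        eq_of_le_of_card_ge (zpowers_le.2 hyM) (by rw [Nat.card_zpowers, hy, h])
      have hd := normalizer_dvd hy
      rw [hMy, normalizer_eq_top, card_top, hord] at hd
      have h1980 : 1980 ∣ Nat.card (centralizer ({y} : Set G)) := by omega
      have hall : ∀ s, s.Prime → s ∣ 1980 → (5 ∈ A ↔ s ∈ A) := fun s hs hsd => by
        have := iff_of_dvd hord hsplit (g := y) (hy ▸ by norm_num) hs (hsd.trans h1980)
        rwa [hy] at this
      have e11 := hall 11 (by norm_num) (by norm_num)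
      obtain rfl | rfl | rfl | rfl := hrcases
      · exact hrne (e11.symm.trans (hall 2 hrp (by norm_num)))
      · exact hrne (e11.symm.trans (hall 3 hrp (by norm_num)))
      · exact hrne e11.symm
      · exact hrne Iff.rfl
    haveI : Nontrivial G := Finite.one_lt_card_iff_nontrivial.1 (by rw [hord]; norm_num)
    refine ⟨fun N hN => ?_⟩
    haveI := hN
    by_cases h11 : 11 ∣ Nat.card N
    swap
    · exact Or.inl (main N hN h11)
    right
    obtain ⟨x', hx'N, hx'⟩ := exists_orderOf h11
    obtain ⟨g, hg⟩ := exists_conj_zpowers (fac_eleven hord) hx hx'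
    have hxN : x ∈ N := by
      have : x ∈ (zpowers x').map (MulAut.conj g).toMonoidHom := hg ▸ mem_zpowers x
      obtain ⟨v, hv, rfl⟩ := this
      exact hN.conj_mem _ (zpowers_le.2 hx'N hv) g
    have hfr := frattini_eleven hord N hx hxN
    rw [← hH, hH'] at hfr
    have h2 : Nat.card (N ⊓ H : Subgroup G) ∣ 11 * 5 := by
      have := card_dvd_of_le (inf_le_right : N ⊓ H ≤ H)
      rwa [hH'] at this
    have h3 : 11 ∣ Nat.card (N ⊓ H : Subgroup G) := by
      rw [← hx, ← Nat.card_zpowers]
      exact card_dvd_of_le (le_inf (zpowers_le.2 hxN) le_normalizer)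
    obtain ⟨m, hm⟩ := h3
    have hm5 : m ∣ 5 := by
      rw [hm] at h2
      exact (Nat.mul_dvd_mul_iff_left (by norm_num)).1 h2
    rcases (Nat.dvd_prime (by norm_num)).1 hm5 with h | h
    · exfalso
      subst h
      rw [hm] at hfr
      obtain ⟨K, hKn, hK11, hK⟩ := exists_complement N hx hxN (fac_eleven hord) (by rw [← hH, hm])
      have := main K hKn hK11
      rw [this, card_bot] at hK
      omega
    · subst h
      rw [hm] at hfr
      exact eq_top_of_card_eq N (by rw [hord]; omega)

end Cfsg.Agent.GK7920
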